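import Mathlib

/-! # Linear systems of polynomials with prescribed divisor -/

set_option autoImplicit false

open Polynomial

namespace Groth.Agent.PolySys

variable {k : Type*} [Field k]

lemma mem_all_of_finrank_ge (V : Submodule k k[X]) (g : k[X]) (hg : g.Monic) (N d : ℕ)
    (hN : g.natDegree + d = N) (hV : ∀ f ∈ V, f.natDegree ≤ N)
    (h : d + 1 ≤ Module.finrank k ↥(V ⊓ (Ideal.span {g}).restrictScalars k)) :
    ∀ u : k[X], u.natDegree ≤ d → g * u ∈ V := by
  set W : Submodule k k[X] := (Polynomial.degreeLT k (d + 1)).map (LinearMap.mulLeft k g) with hW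
  haveI : Module.Finite k ↥(Polynomial.degreeLT k (d + 1)) :=
    Module.Finite.equiv (Polynomial.degreeLTEquiv k (d + 1)).symm
  have hWd : Module.finrank k ↥W ≤ d + 1 :=
    (Submodule.finrank_map_le _ _).trans (by
      rw [(Polynomial.degreeLTEquiv k (d + 1)).finrank_eq, Module.finrank_pi, Fintype.card_fin])
  have hle : V ⊓ (Ideal.span {g}).restrictScalars k ≤ W := by
    rintro f ⟨hfV, hfg⟩
    obtain ⟨u, rfl⟩ := Ideal.mem_span_singleton.mp hfg
    refine ⟨u, ?_, rfl⟩
    rw [SetLike.mem_coe, Polynomial.mem_degreeLT]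
    rcases eq_or_ne u 0 with rfl | hu
    · simp [WithBot.bot_lt_coe]
    · have := hV _ hfV
      rw [hg.natDegree_mul' hu] at this
      exact (degree_le_natDegree).trans_lt (by exact_mod_cast (by omega : u.natDegree < d + 1))
  have heq := Submodule.eq_of_le_of_finrank_le hle (hWd.trans h)
  intro u hu
  have : g * u ∈ W := ⟨u, by
    rw [SetLike.mem_coe, Polynomial.mem_degreeLT]
    exact (degree_le_natDegree).trans_lt (by exact_mod_cast Nat.lt_succ_of_le hu), rfl⟩
  rw [← heq] at this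
  exact this.1

lemma finrank_le_one (W : Submodule k k[X]) (v : k[X]) (h : ∀ f ∈ W, ∃ c : k, f = c • v) :
    Module.finrank k ↥W ≤ 1 := by
  have : W ≤ Submodule.span k {v} := fun f hf => by
    obtain ⟨c, rfl⟩ := h f hf
    exact Submodule.smul_mem _ _ (Submodule.mem_span_singleton_self v)
  exact (Submodule.finrank_mono this).trans ((finrank_span_le_card _).trans (by simp))

/-- The system `c + X (X + 1) F` of degree at most `a + 1`. -/
lemma twoPlusOne (a : ℕ) (V : Submodule k k[X])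
    (hV : V = Submodule.span k {(1 : k[X])} ⊔
      ((Ideal.span {(X : k[X]) * (X + 1)}).restrictScalars k ⊓ Polynomial.degreeLE k ↑(a + 1)))
    {f : k[X]} (hf : f ∈ V) : f.natDegree ≤ a + 1 ∧ f.eval 0 = f.eval (-1) := by
  subst hV
  obtain ⟨u, hu, w, ⟨hw1, hw2⟩, rfl⟩ := Submodule.mem_sup.mp hf
  obtain ⟨c, rfl⟩ := Submodule.mem_span_singleton.mp hu
  obtain ⟨F, rfl⟩ := Ideal.mem_span_singleton.mp hw1
  refine ⟨(natDegree_add_le _ _).trans (max_le ?_ ?_), ?_⟩
  · simp [Algebra.smul_def]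
  · exact natDegree_le_iff_degree_le.mpr (Polynomial.mem_degreeLE.mp hw2)
  · simp

lemma mem_twoPlusOne (a : ℕ) (V : Submodule k k[X])
    (hV : V = Submodule.span k {(1 : k[X])} ⊔
      ((Ideal.span {(X : k[X]) * (X + 1)}).restrictScalars k ⊓ Polynomial.degreeLE k ↑(a + 1)))
    {f : k[X]} (hd : f.natDegree ≤ a + 1) (he : f.eval 0 = f.eval (-1)) : f ∈ V := by
  subst hV
  refine Submodule.mem_sup.mpr ⟨C (f.eval 0), Submodule.mem_span_singleton.mpr
    ⟨f.eval 0, by rw [smul_eq_C_mul, mul_one]⟩, f - C (f.eval 0), ⟨?_, ?_⟩, by ring⟩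
  · refine Ideal.mem_span_singleton.mpr (IsCoprime.mul_dvd ⟨-1, 1, by ring⟩ ?_ ?_)
    · rw [X_dvd_iff, coeff_zero_eq_eval_zero]; simp
    · rw [show (X : k[X]) + 1 = X - C (-1) by simp, dvd_iff_isRoot]
      simp [IsRoot, he]
  · rw [Polynomial.degreeLE, ← Polynomial.degreeLE]
    exact Polynomial.mem_degreeLE.mpr (natDegree_le_iff_degree_le.mp (by simpa using hd))

end Groth.Agent.PolySys
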